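import Cfsg.Agent.S0394
import Cfsg.Agent.S0395
import Cfsg.Agent.S0396
import Cfsg.Agent.S0397
import Cfsg.Agent.S0400
import Cfsg.Agent.S0401
import Cfsg.Agent.S1569
import Cfsg.Agent.S1570
import Cfsg.Agent.SporadicA.Norm64
import Cfsg.Agent.CpAutBig.FixCount
import Cfsg.Agent.FastGrp
import Cfsg.Agent.Prune
set_option linter.all false
prune_inst 0x7f00000000000000000000000000000000000000000000000000000000000000000000000000000000000000000000000000000000000000000000000000000000000000000000000000000000000000003fffffffffffffffffffffffffffbeffbdffffffff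
open scoped Cfsg.Agent.FastGrp

/-!
# Elements of prime order of `Co0` with a fixed vector (helper13)

* `exists_fix` : a map with `f^p = 1` on a finite set whose order is not divisible by `p` has a fixed point;
* `exists_short_fixed` : `x ∈ Co0` with `x ^ p = 1`, `p ≥ 5`, and a nonzero fixed vector has a fixed vector of norm 32,
  48 or 64;
* `card_stab_mul` : the orders of the stabilizers of the vectors of norm 32, 48, 64; `exists_smul_eq` : transitivity;
* `centralizer_of_conj` : `g x g⁻¹ ∈ ⟨r⟩`, `x`, `r` of prime order `p`: `|C(x)| = |C(r)|`.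
-/

set_option autoImplicit false

namespace Cfsg.Agent.CpAutBig.CoZero

open Cfsg Cfsg.Agent.SporadicStructure.Co0Base

theorem finite_co0 : Finite Co0 := Nat.finite_of_card_ne_zero (by rw [S0397.result]; norm_num)

/-- fixed points of maps of prime order -/
theorem exists_fix {α : Type*} (S : Set α) (hS : S.Finite) {p : ℕ} (hp : p.Prime) (hcard : ¬ p ∣ S.ncard)
    (f : α → α) (hfS : ∀ x ∈ S, f x ∈ S) (hf : ∀ x ∈ S, f^[p] x = x) : ∃ x ∈ S, f x = x := by
  classical
  have : Fact p.Prime := ⟨hp⟩
  have hfin : Finite S := hS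
  let _ : Fintype S := Fintype.ofFinite S
  let g : Function.End S := fun x => ⟨f x, hfS x x.2⟩
  have hg : ∀ (n : ℕ) (x : S), (((g ^ n : Function.End S) x : S) : α) = f^[n] x := by
    intro n
    induction n with
    | zero => intro x; rfl
    | succ n ih =>
      intro x
      rw [Function.iterate_succ_apply', ← ih x, pow_succ']
      rfl
  have h1 : g ^ p ^ 1 = 1 := by
    funext x
    apply Subtype.ext
    rw [pow_one, hg, hf _ x.2]
    rfl
  have h2 := Equiv.Perm.card_fixedPoints_modEq h1
  by_contra hcon
  push Not at hcon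
  have h3 : Fintype.card (Function.fixedPoints g) = 0 := by
    rw [Fintype.card_eq_zero_iff]
    refine ⟨?_⟩
    rintro ⟨x, hx⟩
    exact hcon x x.2 (congrArg Subtype.val hx)
  rw [h3] at h2
  apply hcard
  rw [← Nat.card_coe_set_eq, Nat.card_eq_fintype_card]
  exact (Nat.modEq_zero_iff_dvd).1 h2

theorem smul_iterate (x : Co0) (n : ℕ) (v : leechLattice) : (fun w : leechLattice => x • w)^[n] v = x ^ n • v := by
  induction n with
  | zero => rw [pow_zero, one_smul]; rfl
  | succ n ih => rw [Function.iterate_succ_apply', ih, pow_succ', mul_smul]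

theorem sqNorm_two_nsmul (w : GolayPt → ℤ) : sqNorm (2 • w) = 4 * sqNorm w := by
  simp only [sqNorm, Pi.smul_apply, Finset.mul_sum]
  apply Finset.sum_congr rfl
  intro i _
  rw [nsmul_eq_mul]
  push_cast
  ring

theorem two_nsmul_inj {v w : leechLattice} (h : (2 : ℕ) • v = (2 : ℕ) • w) : v = w := by
  apply Subtype.ext
  funext i
  have h1 := congrArg (fun u : leechLattice => (u : GolayPt → ℤ) i) h
  change (2 : ℕ) • (v : GolayPt → ℤ) i = (2 : ℕ) • (w : GolayPt → ℤ) i at h1
  rw [nsmul_eq_mul, nsmul_eq_mul] at h1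
  push_cast at h1
  omega

theorem sqNorm_pos {v : leechLattice} (hv : v ≠ 0) : 32 ≤ sqNorm (v : GolayPt → ℤ) :=
  Cfsg.Agent.Leech.Basic.le_sqNorm v.2 fun h => hv (Subtype.ext h)

/-- an element of odd order does not negate a nonzero vector -/
theorem not_neg {x : Co0} {n : ℕ} (hn : Odd n) (hx : x ^ n = 1) {v : leechLattice} (hv : v ≠ 0) : x • v ≠ -v := by
  intro h
  have h1 : ∀ k : ℕ, x ^ (2 * k) • v = v := by
    intro k
    induction k with
    | zero => rw [mul_zero, pow_zero, one_smul]
    | succ k ih =>
      rw [mul_add, mul_one, pow_add, mul_smul, pow_two, mul_smul, h, co0_smul_neg, h, neg_neg, ih]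
  obtain ⟨k, hk⟩ := hn
  have h2 : x ^ n • v = -v := by
    rw [hk, pow_succ', mul_smul, h1, h]
  rw [hx, one_smul] at h2
  apply hv
  apply Subtype.ext
  funext i
  have h3 := congrArg (fun u : leechLattice => (u : GolayPt → ℤ) i) h2
  change (v : GolayPt → ℤ) i = -(v : GolayPt → ℤ) i at h3
  change (v : GolayPt → ℤ) i = 0
  omega

/-- **A short fixed vector.** -/
theorem exists_short_fixed {p : ℕ} (hp : p.Prime) (hp5 : 5 ≤ p) {x : Co0} (hx : x ^ p = 1) :
    ∀ (v : leechLattice), v ≠ 0 → x • v = v → ∃ u : leechLattice, x • u = u ∧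
      (sqNorm (u : GolayPt → ℤ) = 32 ∨ sqNorm (u : GolayPt → ℤ) = 48 ∨ sqNorm (u : GolayPt → ℤ) = 64) := by
  have hodd : Odd p := hp.odd_of_ne_two (by omega)
  have key : ∀ (N : ℕ) (v : leechLattice), (sqNorm (v : GolayPt → ℤ)).toNat = N → v ≠ 0 → x • v = v →
      ∃ u : leechLattice, x • u = u ∧
        (sqNorm (u : GolayPt → ℤ) = 32 ∨ sqNorm (u : GolayPt → ℤ) = 48 ∨ sqNorm (u : GolayPt → ℤ) = 64) := by
    intro N
    induction N using Nat.strong_induction_on with
    | _ N ih =>
      intro v hN hv hxv
      by_cases h2 : ∃ w : leechLattice, v = (2 : ℕ) • w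
      · obtain ⟨w, rfl⟩ := h2
        have hw : w ≠ 0 := by
          rintro rfl
          exact hv (smul_zero _)
        have h1 : sqNorm (((2 : ℕ) • w : leechLattice) : GolayPt → ℤ) = 4 * sqNorm (w : GolayPt → ℤ) :=
          sqNorm_two_nsmul _
        have h3 := sqNorm_pos hw
        refine ih (sqNorm (w : GolayPt → ℤ)).toNat ?_ w rfl hw ?_
        · rw [← hN, h1]
          omega
        · apply two_nsmul_inj
          rw [← FixCount.nsmul_smul, hxv]
      · obtain ⟨y, hy, hn, z, hz, hyz⟩ := S1570.result (v : GolayPt → ℤ) v.2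
        obtain ⟨y', hy'⟩ : ∃ y' : leechLattice, y' = ⟨y, hy⟩ := ⟨_, rfl⟩
        obtain ⟨z', hz'⟩ : ∃ z' : leechLattice, z' = ⟨z, hz⟩ := ⟨_, rfl⟩
        have hvy : v - y' = (2 : ℕ) • z' := by
          rw [hy', hz']
          exact Subtype.ext hyz
        have hny : sqNorm (y' : GolayPt → ℤ) ≤ 64 := by rw [hy']; exact hn
        have hy0 : y' ≠ 0 := by
          intro h0
          apply h2
          refine ⟨z', ?_⟩
          rw [← hvy, h0, sub_zero]
        have h32 := sqNorm_pos hy0
        have h16 := Cfsg.Agent.Leech.Basic.sixteen_dvd_sqNorm y'.2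
        -- `x y' ≡ y'`
        have hcong : x • y' - y' = (2 : ℕ) • (z' - x • z') := by
          have e1 : y' = v - (2 : ℕ) • z' := by rw [← hvy]; abel
          rw [e1, co0_smul_sub, hxv, FixCount.nsmul_smul, smul_sub]
          abel
        by_cases h64 : sqNorm (y' : GolayPt → ℤ) = 64
        · -- the cross
          have hcr : (cross (y' : GolayPt → ℤ)).ncard = 48 := S1569.result _ y'.2 h64
          let S : Set leechLattice := {w | (w : GolayPt → ℤ) ∈ cross (y' : GolayPt → ℤ)}
          have hS : S.ncard = 48 := by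
            rw [← hcr, ← Set.ncard_image_of_injective S Subtype.val_injective]
            congr 1
            ext w
            constructor
            · rintro ⟨w', hw', rfl⟩
              exact hw'
            · intro hw
              exact ⟨⟨w, hw.1⟩, hw, rfl⟩
          have hSf : S.Finite := Set.finite_of_ncard_ne_zero (by rw [hS]; norm_num)
          have hpc : ¬ p ∣ S.ncard := by
            rw [hS]
            intro hd
            have h3 : p ∣ 2 ^ 4 * 3 := hd
            rcases hp.dvd_mul.1 h3 with h4 | h4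
            · have := (Nat.prime_dvd_prime_iff_eq hp Nat.prime_two).1 (hp.dvd_of_dvd_pow h4)
              omega
            · have := (Nat.prime_dvd_prime_iff_eq hp Nat.prime_three).1 h4
              omega
          obtain ⟨u, huS, hu⟩ := exists_fix S hSf hp hpc (fun w => x • w) (by
            rintro w ⟨-, hwn, t, ht, hwt⟩
            refine ⟨(x • w).2, by rw [co0_sqNorm, hwn], ?_⟩
            obtain ⟨t', ht'⟩ : ∃ t' : leechLattice, t' = ⟨t, ht⟩ := ⟨_, rfl⟩
            have hwt' : y' - w = (2 : ℕ) • t' := by
              rw [ht']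
              exact Subtype.ext hwt
            have h5 : y' - x • w = (2 : ℕ) • (x • t' - (z' - x • z')) := by
              have e1 : w = y' - (2 : ℕ) • t' := by rw [← hwt']; abel
              have e2 : x • y' = y' + (2 : ℕ) • (z' - x • z') := by rw [← hcong]; abel
              rw [e1, co0_smul_sub, e2, FixCount.nsmul_smul, smul_sub]
              abel
            exact ⟨_, (x • t' - (z' - x • z')).2, congrArg Subtype.val h5⟩) (by
            intro w _
            rw [smul_iterate, hx, one_smul])
          refine ⟨u, hu, Or.inr (Or.inr ?_)⟩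
          have := huS.2.1
          rw [this, h64]
        · have h5 := FixCount.sqNorm_congr (x := ((x • y' : leechLattice) : GolayPt → ℤ)) (y := (y' : GolayPt → ℤ))
            (z := ((z' - x • z' : leechLattice) : GolayPt → ℤ)) y'.2 (z' - x • z').2 (congrArg Subtype.val hcong)
            (by rw [co0_sqNorm]; omega)
          rcases h5 with h5 | h5
          · exact ⟨y', Subtype.ext h5, by omega⟩
          · exact absurd (Subtype.ext h5) (not_neg hodd hx hy0)
  exact fun v => key _ v rfl

/-- transitivity on the vectors of norm 32, 48, 64 -/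
theorem exists_smul_eq {n : ℤ} (hn : n = 32 ∨ n = 48 ∨ n = 64) (v w : leechLattice)
    (hv : sqNorm (v : GolayPt → ℤ) = n) (hw : sqNorm (w : GolayPt → ℤ) = n) : ∃ g : Co0, g • v = w := by
  rcases hn with rfl | rfl | rfl
  · exact S0400.result v w hv hw
  · exact S0401.result v w hv hw
  · exact Cfsg.Agent.SporadicA.Norm64.orbit64 v w hv hw

/-- the number of vectors of norm 32, 48, 64 -/
def cnt (n : ℤ) : ℕ := if n = 32 then 196560 else if n = 48 then 16773120 else 398034000

theorem ncard_eq {n : ℤ} (hn : n = 32 ∨ n = 48 ∨ n = 64) :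
    {x : GolayPt → ℤ | x ∈ leechLattice ∧ sqNorm x = n}.ncard = cnt n := by
  rcases hn with rfl | rfl | rfl
  · rw [S0394.result]; rfl
  · rw [S0395.result]; rfl
  · rw [S0396.result]; rfl

theorem card_stab_mul {n : ℤ} (hn : n = 32 ∨ n = 48 ∨ n = 64) (v : leechLattice)
    (hv : sqNorm (v : GolayPt → ℤ) = n) :
    Nat.card (MulAction.stabilizer Co0 v) * cnt n = 8315553613086720000 := by
  have horb : MulAction.orbit Co0 v = {w : leechLattice | sqNorm (w : GolayPt → ℤ) = n} := by
    ext w
    constructor
    · rintro ⟨g, rfl⟩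
      change sqNorm ((g • v : leechLattice) : GolayPt → ℤ) = n
      rw [co0_sqNorm, hv]
    · intro hw
      exact exists_smul_eq hn v w hv hw
  have h1 : (MulAction.orbit Co0 v).ncard = cnt n := by
    rw [horb, ← ncard_eq hn, ← Set.ncard_image_of_injective _ (Subtype.val_injective)]
    congr 1
    ext x
    constructor
    · rintro ⟨w, hw, rfl⟩
      exact ⟨w.2, hw⟩
    · rintro ⟨hx, hn⟩
      exact ⟨⟨x, hx⟩, hn, rfl⟩
  have h2 := MulAction.index_stabilizer (G := Co0) (x := v)
  have h3 := (MulAction.stabilizer Co0 v).card_mul_index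
  rw [h2, h1, S0397.result] at h3
  exact h3

/-! ### Centralizers -/

section abs

open Subgroup

theorem centralizer_eq_of_mem {G : Type*} [Group G] {p : ℕ} (hp : p.Prime) {x r : G} (hx : orderOf x = p)
    (hr : orderOf r = p) (h : x ∈ zpowers r) : centralizer ({x} : Set G) = centralizer {r} := by
  have hz : zpowers x = zpowers r := by
    have hfin : Finite ↥(zpowers r) := Nat.finite_of_card_ne_zero (by rw [Nat.card_zpowers, hr]; exact hp.ne_zero)
    exact eq_of_le_of_card_ge (zpowers_le.2 h) (by rw [Nat.card_zpowers, Nat.card_zpowers, hx, hr])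
  have key : ∀ {a b : G}, a ∈ zpowers b → centralizer ({b} : Set G) ≤ centralizer {a} := by
    rintro a b ⟨n, rfl⟩ g hg
    rw [mem_centralizer_singleton_iff] at hg ⊢
    have hg' : Commute g b := hg
    exact hg'.zpow_right n
  apply le_antisymm
  · exact key (by rw [hz]; exact mem_zpowers r)
  · exact key h

theorem map_centralizer {G : Type*} [Group G] (g x : G) :
    (centralizer ({x} : Set G)).map (MulAut.conj g).toMonoidHom = centralizer {g * x * g⁻¹} := by
  ext y
  rw [mem_centralizer_singleton_iff]
  constructor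
  · rintro ⟨a, ha, rfl⟩
    rw [SetLike.mem_coe, mem_centralizer_singleton_iff] at ha
    change (g * a * g⁻¹) * (g * x * g⁻¹) = (g * x * g⁻¹) * (g * a * g⁻¹)
    calc (g * a * g⁻¹) * (g * x * g⁻¹) = g * (a * x) * g⁻¹ := by group
      _ = g * (x * a) * g⁻¹ := by rw [ha]
      _ = (g * x * g⁻¹) * (g * a * g⁻¹) := by group
  · intro hy
    refine ⟨g⁻¹ * y * g, ?_, ?_⟩
    · rw [SetLike.mem_coe, mem_centralizer_singleton_iff]
      calc g⁻¹ * y * g * x = g⁻¹ * (y * (g * x * g⁻¹)) * g := by group
        _ = g⁻¹ * ((g * x * g⁻¹) * y) * g := by rw [hy]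
        _ = x * (g⁻¹ * y * g) := by group
    · change g * (g⁻¹ * y * g) * g⁻¹ = y
      group

theorem card_centralizer_of_conj {G : Type*} [Group G] {p : ℕ} (hp : p.Prime) {x r g : G} (hx : orderOf x = p)
    (hr : orderOf r = p) (h : g * x * g⁻¹ ∈ zpowers r) :
    Nat.card (centralizer ({x} : Set G)) = Nat.card (centralizer ({r} : Set G)) := by
  have h1 : orderOf (g * x * g⁻¹) = p := by
    rw [← MulAut.conj_apply, MulEquiv.orderOf_eq, hx]
  rw [← centralizer_eq_of_mem hp h1 hr h, ← map_centralizer]
  exact Nat.card_congr ((centralizer ({x} : Set G)).equivMapOfInjective _ (MulAut.conj g).injective).toEquiv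

end abs

end Cfsg.Agent.CpAutBig.CoZero
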