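import Cfsg.Agent.CpAutBig.FixCount
import Cfsg.Agent.SporadicStructure.TabPerm
set_option linter.all false

/-!
# Tables for `FixCount.card_le` (helper13)

For a permutation `tabPerm F G h` of the 24 points with the table `F`, cycle numbers `CY` and representatives `REP`:

* `exists_vals` : the fixed vectors are determined by the values at the representatives;
* `exists_family` : a list of codes of fixed lattice vectors of norm at most 48;
* `card_words` : a list of the invariant words;
* `smul_octad_of_inv` : the image of an invariant octad.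
-/

set_option autoImplicit false
open scoped Pointwise

namespace Cfsg.Agent.CpAutBig.Tab

open Cfsg Cfsg.Agent.SporadicA.GolayBase Cfsg.Agent.SporadicStructure.TabPerm
open Cfsg.Agent.CpAutBig.FixCount

variable {F G : List ℕ} (hFG : chk F G = true)

theorem idx_tab (p : GolayPt) : idx (tabPerm F G hFG p) = F.getD (idx p) 0 := by
  rw [tabPerm_apply, idx_pt ((chk_spec hFG).2.2 _ (idx_lt p)).1]

theorem idx_iter (e : ℕ) (p : GolayPt) :
    idx ((tabPerm F G hFG ^ e : Equiv.Perm GolayPt) p) = (fun j => F.getD j 0)^[e] (idx p) := by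
  induction e with
  | zero => rfl
  | succ e ih =>
    rw [pow_succ', Function.iterate_succ_apply', ← ih]
    exact idx_tab hFG _

/-- The values at the representatives. -/
def vals (REP : List ℕ) (n : ℕ) : LF (tabPerm F G hFG) →ₗ[ℤ] (Fin n → ℤ) where
  toFun x := fun k => (x : GolayPt → ℤ) (pt (REP.getD k 0))
  map_add' _ _ := rfl
  map_smul' _ _ := rfl

theorem fix_iter {x : GolayPt → ℤ} (hx : x ∈ LF (tabPerm F G hFG)) (e : ℕ) (p : GolayPt) :
    x ((tabPerm F G hFG ^ e : Equiv.Perm GolayPt) p) = x p := by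
  induction e with
  | zero => rfl
  | succ e ih =>
    rw [pow_succ', ← ih]
    exact (mem_LF _).1 hx |>.2 _

theorem vals_injective {REP : List ℕ} {n q : ℕ}
    (h : ∀ i < 24, ∃ k < n, REP.getD k 0 < 24 ∧ ∃ e < q, (fun j => F.getD j 0)^[e] (REP.getD k 0) = i) :
    Function.Injective (vals hFG REP n) := by
  rw [injective_iff_map_eq_zero]
  intro x hx
  apply Subtype.ext
  funext p
  obtain ⟨k, hk, hlt, e, -, he⟩ := h (idx p) (idx_lt p)
  have h4 : (x : GolayPt → ℤ) (pt (REP.getD k 0)) = 0 := congrFun hx ⟨k, hk⟩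
  have h5 : (tabPerm F G hFG ^ e : Equiv.Perm GolayPt) (pt (REP.getD k 0)) = p := by
    apply idx_injective
    rw [idx_iter, idx_pt hlt, he]
  change (x : GolayPt → ℤ) p = 0
  rw [← h5, fix_iter hFG x.2, h4]

/-! ### Fixed vectors -/

/-- The `k`-th digit in base 16, shifted by 8. -/
def dg (a k : ℕ) : ℤ := ((a / 16 ^ k % 16 : ℕ) : ℤ) - 8

/-- The vector with the value `dg a k` on the `k`-th cycle. -/
def xv (CY : List ℕ) (a : ℕ) : GolayPt → ℤ := fun p => dg a (CY.getD (idx p) 0)

/-- The conditions of membership. -/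
def chkv (CY : List ℕ) (a : ℕ) (m : ℤ) (w : ℕ) : Bool :=
  ((List.range 24).all fun i => dg a (CY.getD i 0) % 2 == m) &&
  (∑ i ∈ Finset.range 24, dg a (CY.getD i 0)) % 8 == (4 * m) % 8 &&
  ((List.range 24).all fun i => w.testBit i == (dg a (CY.getD i 0) % 4 == m)) &&
  decide (∑ i ∈ Finset.range 24, dg a (CY.getD i 0) ^ 2 ≤ 48)

theorem sum_xv (CY : List ℕ) (a : ℕ) : ∑ p, xv CY a p = ∑ i ∈ Finset.range 24, dg a (CY.getD i 0) := by
  rw [sum_pt]
  apply Finset.sum_congr rfl
  intro i hi
  unfold xv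
  rw [idx_pt (Finset.mem_range.1 hi)]

theorem sqNorm_xv (CY : List ℕ) (a : ℕ) :
    sqNorm (xv CY a) = ∑ i ∈ Finset.range 24, dg a (CY.getD i 0) ^ 2 := by
  rw [sqNorm, sum_pt]
  apply Finset.sum_congr rfl
  intro i hi
  unfold xv
  rw [idx_pt (Finset.mem_range.1 hi)]

theorem chkv_spec {CY : List ℕ} {a : ℕ} {m : ℤ} {w : ℕ} (hm : m = 0 ∨ m = 1) (hw : isCode w = true)
    (h : chkv CY a m w = true) : xv CY a ∈ leechLattice ∧ sqNorm (xv CY a) ≤ 48 := by
  unfold chkv at h
  rw [Bool.and_eq_true, Bool.and_eq_true, Bool.and_eq_true, List.all_eq_true, List.all_eq_true,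
    beq_iff_eq, decide_eq_true_eq] at h
  obtain ⟨⟨⟨h1, h2⟩, h3⟩, h4⟩ := h
  have g1 : ∀ p : GolayPt, xv CY a p % 2 = m := fun p => by
    have := h1 (idx p) (List.mem_range.2 (idx_lt p))
    exact beq_iff_eq.1 this
  have g3 : ∀ p : GolayPt, w.testBit (idx p) = true ↔ xv CY a p % 4 = m := fun p => by
    have := h3 (idx p) (List.mem_range.2 (idx_lt p))
    rw [beq_iff_eq] at this
    rw [this, beq_iff_eq]
    rfl
  refine ⟨?_, by rw [sqNorm_xv]; exact h4⟩
  have hL : Cfsg.Agent.Leech.Basic.IsLeech m (xv CY a) := by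
    apply Cfsg.Agent.Leech.Basic.isLeech_of_cls
    · intro p
      have := g1 p
      unfold Int.ModEq
      rcases hm with rfl | rfl <;> omega
    · rw [sum_xv]
      exact h2
    · have : Cfsg.Agent.Leech.Basic.cls (xv CY a) m = fin w := by
        ext p
        rw [Cfsg.Agent.Leech.Basic.mem_cls, mem_fin, g3]
        unfold Int.ModEq
        rcases hm with rfl | rfl <;> omega
      rw [this]
      exact (fin_mem_supports_iff (isCode_lt hw)).2 hw
  exact hL.mem

/-- The conditions for the list of fixed vectors. -/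
def chkA (CY A W : List ℕ) : Bool := A.all (fun a => W.any fun w => chkv CY a 0 w || chkv CY a 1 w)

theorem exists_family {CY A W REP : List ℕ} {n : ℕ} (hCY : ∀ i < 24, CY.getD (F.getD i 0) 0 = CY.getD i 0)
    (hW : ∀ w ∈ W, isCode w = true) (hA : chkA CY A W = true)
    (hREP : ∀ k < n, REP.getD k 0 < 24 ∧ CY.getD (REP.getD k 0) 0 = k)
    (h0 : ∀ a ∈ A, ∃ k < n, dg a k ≠ 0)
    (hp : A.Pairwise fun a b => (∃ k < n, dg a k ≠ dg b k) ∧ (∃ k < n, dg a k ≠ -dg b k)) :
    ∃ v : Fin A.length → LF (tabPerm F G hFG), (∀ i, ((v i : LF (tabPerm F G hFG)) : GolayPt → ℤ) ≠ 0) ∧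
      (∀ i, sqNorm ((v i : LF (tabPerm F G hFG)) : GolayPt → ℤ) ≤ 48) ∧
      (∀ i j, i ≠ j → ((v i : LF (tabPerm F G hFG)) : GolayPt → ℤ) ≠ v j ∧
        ((v i : LF (tabPerm F G hFG)) : GolayPt → ℤ) ≠ -(v j : GolayPt → ℤ)) := by
  have hspec : ∀ a ∈ A, xv CY a ∈ LF (tabPerm F G hFG) ∧ sqNorm (xv CY a) ≤ 48 := by
    intro a ha
    unfold chkA at hA
    rw [List.all_eq_true] at hA
    have h2 := hA a ha
    rw [List.any_eq_true] at h2
    obtain ⟨w, hw, h3⟩ := h2
    have h4 : xv CY a ∈ leechLattice ∧ sqNorm (xv CY a) ≤ 48 := by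
      rw [Bool.or_eq_true] at h3
      rcases h3 with h3 | h3
      · exact chkv_spec (Or.inl rfl) (hW w hw) h3
      · exact chkv_spec (Or.inr rfl) (hW w hw) h3
    refine ⟨⟨h4.1, fun p => ?_⟩, h4.2⟩
    unfold xv
    rw [idx_tab, hCY _ (idx_lt p)]
  have hrep : ∀ a k, k < n → xv CY a (pt (REP.getD k 0)) = dg a k := by
    intro a k hk
    unfold xv
    rw [idx_pt (hREP k hk).1, (hREP k hk).2]
  refine ⟨fun i => ⟨xv CY (A.get i), (hspec _ (List.get_mem _ _)).1⟩, ?_, ?_, ?_⟩
  · intro i h
    obtain ⟨k, hk, h1⟩ := h0 _ (List.get_mem A i)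
    apply h1
    rw [← hrep _ k hk]
    exact congrFun h _
  · exact fun i => (hspec _ (List.get_mem _ _)).2
  · have key : ∀ i j : Fin A.length, i < j → xv CY (A.get i) ≠ xv CY (A.get j) ∧
        xv CY (A.get i) ≠ -(xv CY (A.get j)) := by
      intro i j hij
      have h1 := (List.pairwise_iff_get.1 hp) _ _ hij
      constructor
      · intro h2
        obtain ⟨k, hk, h3⟩ := h1.1
        apply h3
        rw [← hrep _ k hk, ← hrep _ k hk, h2]
      · intro h2
        obtain ⟨k, hk, h3⟩ := h1.2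
        apply h3
        rw [← hrep _ k hk, ← hrep _ k hk, h2]
        rfl
    intro i j hij
    rcases lt_or_gt_of_ne hij with h1 | h1
    · exact key i j h1
    · have h2 := key j i h1
      refine ⟨fun h3 => h2.1 h3.symm, fun h3 => h2.2 ?_⟩
      have h4 : xv CY (A.get i) = -(xv CY (A.get j)) := h3
      rw [h4, neg_neg]

/-! ### Invariant words -/

/-- Whether the mask is invariant. -/
def invm (F : List ℕ) (m : ℕ) : Bool := (List.range 24).all fun i => m.testBit (F.getD i 0) == m.testBit i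

/-- The invariant code words are those of the list. -/
theorem mem_words {W : List ℕ} (hW : allR 12 0 (fun i => !(invm F (enc i)) || W.contains (enc i)) = true)
    {c : Finset GolayPt} (hc : c ∈ supports (golayCode : Set (GolayPt → ZMod 2)))
    (h : ∀ p, tabPerm F G hFG p ∈ c ↔ p ∈ c) : maskOf c ∈ W := by
  obtain ⟨i, hi, hm⟩ := isCode_iff_exists.1 ((mem_supports_iff c).1 hc)
  have h1 := allR_zero_spec hW i hi
  rw [Bool.or_eq_true] at h1
  rcases h1 with h1 | h1
  · exfalso
    have h2 : invm F (enc i) = true := by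
      unfold invm
      rw [List.all_eq_true]
      intro j hj
      rw [List.mem_range] at hj
      rw [beq_iff_eq, ← hm]
      have h3 := h (pt j)
      rw [← fin_maskOf c, mem_fin, mem_fin, idx_tab, idx_pt hj] at h3
      exact Bool.eq_iff_iff.2 h3
    rw [h2] at h1
    exact absurd h1 (by decide)
  · rw [hm]
    exact List.contains_iff_mem.1 h1

theorem card_words {W : List ℕ} (hW : allR 12 0 (fun i => !(invm F (enc i)) || W.contains (enc i)) = true) :
    Nat.card {c : Finset GolayPt // c ∈ supports (golayCode : Set (GolayPt → ZMod 2)) ∧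
      ∀ p, tabPerm F G hFG p ∈ c ↔ p ∈ c} ≤ W.length := by
  classical
  let f : {c : Finset GolayPt // c ∈ supports (golayCode : Set (GolayPt → ZMod 2)) ∧
      ∀ p, tabPerm F G hFG p ∈ c ↔ p ∈ c} → W.toFinset := fun c =>
    ⟨maskOf c.1, List.mem_toFinset.2 (mem_words hFG hW c.2.1 c.2.2)⟩
  have hf : Function.Injective f := by
    intro c c' h
    exact Subtype.ext (maskOf_injective (congrArg Subtype.val h))
  have h2 := Nat.card_le_card_of_injective f hf
  rw [Nat.card_eq_fintype_card (α := W.toFinset), Fintype.card_coe] at h2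
  exact h2.trans (List.toFinset_card_le _)

/-! ### Elements of `M24` -/

theorem smul_mem_octads {σ : Equiv.Perm GolayPt} (hσ : σ ∈ M24) {s : Finset GolayPt}
    (hs : s ∈ octads) : σ • s ∈ octads := by
  refine ⟨?_, ?_⟩
  · have h : σ • supports (golayCode : Set (GolayPt → ZMod 2)) =
      supports (golayCode : Set (GolayPt → ZMod 2)) := hσ
    rw [← h]
    exact Set.smul_mem_smul_set hs.1
  · rw [Finset.card_smul_finset]
    exact hs.2

/-- The image of an invariant octad under an element of `M24` commuting with the permutation is an octad of the list. -/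
theorem smul_inv {W : List ℕ} (hW : allR 12 0 (fun i => !(invm F (enc i)) || W.contains (enc i)) = true)
    {σ : Equiv.Perm GolayPt} (hσ : σ ∈ M24) (hc : σ * tabPerm F G hFG = tabPerm F G hFG * σ) {o : ℕ}
    (ho : isCode o = true) (ho8 : popcount o = 8) (hoi : invm F o = true) :
    ∃ o' ∈ W, σ • fin o = fin o' ∧ popcount o' = 8 := by
  have h1 : fin o ∈ octads := (fin_mem_octads_iff (isCode_lt ho)).2 ⟨ho, ho8⟩
  have h2 := smul_mem_octads hσ h1
  have hinv : ∀ p, tabPerm F G hFG p ∈ fin o ↔ p ∈ fin o := by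
    intro p
    rw [mem_fin, mem_fin, idx_tab]
    unfold invm at hoi
    rw [List.all_eq_true] at hoi
    have h3 := hoi (idx p) (List.mem_range.2 (idx_lt p))
    rw [beq_iff_eq] at h3
    rw [h3]
  have h3 : ∀ p, tabPerm F G hFG p ∈ σ • fin o ↔ p ∈ σ • fin o := by
    intro p
    have hc' : ∀ q, σ (tabPerm F G hFG q) = tabPerm F G hFG (σ q) := fun q => DFunLike.congr_fun hc q
    obtain ⟨q, rfl⟩ := σ.surjective p
    rw [← hc']
    have h4 : ∀ r, σ r ∈ σ • fin o ↔ r ∈ fin o := fun r => Finset.smul_mem_smul_finset_iff σ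
    rw [h4, h4, hinv]
  refine ⟨maskOf (σ • fin o), mem_words hFG hW h2.1 h3, (fin_maskOf _).symm, ?_⟩
  rw [← card_eq_popcount]
  exact h2.2

/-- An element of `M24` fixing the points of the mask `nine` is trivial. -/
theorem eq_one_of_fix {sep : List ℕ} {nine : ℕ}
    (hs : ∀ m ∈ sep, isCode m = true ∧ popcount m = 8 ∧ 5 ≤ popcount (m &&& nine))
    (hsep : ∀ i < 24, ∀ j < 24, (∀ m ∈ sep, m.testBit i = m.testBit j) → i = j)
    {τ : Equiv.Perm GolayPt} (hτ : τ ∈ M24) (h : ∀ p ∈ fin nine, τ p = p) : τ = 1 := by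
  have h1 : ∀ m ∈ sep, τ • fin m = fin m := by
    intro m hm
    have h2 := hs m hm
    have h3 : fin m ∈ octads := (fin_mem_octads_iff (isCode_lt h2.1)).2 ⟨h2.1, h2.2.1⟩
    apply octad_unique (smul_mem_octads hτ h3) h3
    have h4 : fin (m &&& nine) ⊆ τ • fin m ∩ fin m := by
      rw [fin_and]
      intro p hp
      rw [Finset.mem_inter] at hp ⊢
      refine ⟨?_, hp.1⟩
      rw [← h p hp.2]
      exact Finset.smul_mem_smul_finset hp.1
    have h5 := Finset.card_le_card h4
    rw [card_fin] at h5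
    exact h2.2.2.trans h5
  ext1 p
  apply idx_injective
  apply hsep _ (idx_lt _) _ (idx_lt _)
  intro m hm
  have h2 := h1 m hm
  have h3 : τ p ∈ fin m ↔ p ∈ fin m := by
    constructor
    · intro h4
      rw [← h2, Finset.mem_smul_finset] at h4
      obtain ⟨q, hq, hqp⟩ := h4
      have h5 : q = p := τ.injective hqp
      rw [← h5]; exact hq
    · intro h4
      rw [← h2]
      exact Finset.smul_mem_smul_finset h4
  rw [mem_fin, mem_fin] at h3
  exact Bool.eq_iff_iff.2 h3

theorem iter_comm {σ : Equiv.Perm GolayPt} (hc : σ * tabPerm F G hFG = tabPerm F G hFG * σ) (e : ℕ) (p : GolayPt) :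
    σ ((tabPerm F G hFG ^ e : Equiv.Perm GolayPt) p) = (tabPerm F G hFG ^ e : Equiv.Perm GolayPt) (σ p) := by
  have h : Commute σ (tabPerm F G hFG ^ e) := Commute.pow_right hc e
  exact DFunLike.congr_fun h p

end Cfsg.Agent.CpAutBig.Tab
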